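import Cfsg.Agent.Lib.UThreeLocal.Loc.Assemble
import Cfsg.Agent.Lib.Components.AlmostSimpleSection
import Cfsg.Agent.Lib.Classical.UnitarySimple

/-!
# The conclusion passes from a normal subgroup containing `Z` to the group
-/

set_option autoImplicit false
set_option linter.unusedSectionVars false
set_option linter.style.haveILetI false

namespace Cfsg.Agent.UThreeLocal.End

open Subgroup
open Cfsg.Agent.Components.Basic Cfsg.Agent.Components.Fitting
open scoped commutatorElement

universe u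

variable {G : Type u} [Group G] [Finite G]

/-- A normal simple nonabelian subgroup with trivial centralizer is the generalized Fitting subgroup. -/
theorem genFitting_eq_of_simple {N : Subgroup G} [N.Normal] [IsSimpleGroup ↥N]
    (hnc : ¬ IsMulCommutative ↥N) (hC : centralizer (N : Set G) = ⊥) :
    Cfsg.generalizedFittingSubgroup G = N := by
  have hq : Cfsg.IsQuasisimple ↥N := by
    have hZ : center ↥N = ⊥ := by
      rcases (inferInstance : (center ↥N).Normal).eq_bot_or_eq_top with h | h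
      · exact h
      · exact absurd ⟨⟨fun a b => (mem_center_iff.1 (h ▸ mem_top b) a)⟩⟩ hnc
    refine ⟨⟨?_⟩, ?_⟩
    · rcases (inferInstance : (commutator ↥N).Normal).eq_bot_or_eq_top with h | h
      · refine absurd ⟨⟨fun a b => ?_⟩⟩ hnc
        have : ⁅a, b⁆ ∈ commutator ↥N := commutator_mem_commutator (mem_top a) (mem_top b)
        rw [h, mem_bot] at this
        exact commutatorElement_eq_one_iff_mul_comm.1 this
      · exact h
    · exact ((QuotientGroup.quotientMulEquivOfEq hZ).trans QuotientGroup.quotientBot).isSimpleGroup_congr.2 ‹_›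
  have hle : N ≤ Cfsg.generalizedFittingSubgroup G :=
    component_le_genFitting ⟨(inferInstance : N.Normal).isSubnormal, hq⟩
  refine le_antisymm (sup_le (layer_le fun L hL => ?_) ?_) hle
  · rcases component_le_or_commutator_eq_bot hL (inferInstance : N.Normal).isSubnormal with h | h
    · exact h
    · have h1 : L ≤ centralizer (N : Set G) := commutator_eq_bot_iff_le_centralizer.1 h
      rw [hC] at h1
      exact h1.trans bot_le
  · haveI : (Cfsg.fittingSubgroup G).Normal := inferInstance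
    have hi : (Cfsg.fittingSubgroup G ⊓ N).subgroupOf N = ⊥ := by
      haveI : ((Cfsg.fittingSubgroup G ⊓ N).subgroupOf N).Normal := inferInstance
      refine ((inferInstance : ((Cfsg.fittingSubgroup G ⊓ N).subgroupOf N).Normal).eq_bot_or_eq_top).resolve_right
        fun h => ?_
      haveI hnil : Group.IsNilpotent ↥N :=
        isNilpotent_of_le ((subgroupOf_eq_top.1 h).trans inf_le_left)
      exact hnc ⟨⟨IsSimpleGroup.comm_iff_isSolvable.2 inferInstance⟩⟩
    have h1 : ⁅Cfsg.fittingSubgroup G, N⁆ = ⊥ := by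
      refine le_bot_iff.1 ((commutator_le_inf _ _).trans ?_)
      rw [subgroupOf_eq_bot] at hi
      exact (disjoint_iff.1 hi).le.trans' (by simp)
    have h2 : Cfsg.fittingSubgroup G ≤ centralizer (N : Set G) := commutator_eq_bot_iff_le_centralizer.1 h1
    rw [hC] at h2
    exact h2.trans bot_le

/-- The conclusion from a normal copy of `U₆(2)` with trivial centralizer. -/
theorem isU6Type_of {F : Type} [iF : Field F] [iFF : Fintype F] (hF : Fintype.card F = 4) {N : Subgroup G} [N.Normal]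
    (e : ↥N ≃* Cfsg.PSU 6 F 2) (hC : centralizer (N : Set G) = ⊥) : IsU6Type G := by
  have hs : IsSimpleGroup (Cfsg.PSU 6 F 2) :=
    Cfsg.Agent.Classical.Unitary.isSimpleGroup_PSU (q := 2) (show Fintype.card F = 2 ^ 2 by rw [hF]; rfl)
      (show 3 ≤ 6 by decide) (show ¬ (6 = 3 ∧ 2 = 2) by decide)
  haveI : IsSimpleGroup ↥N := e.isSimpleGroup_congr.2 hs
  have hnc : ¬ IsMulCommutative ↥N := fun hc => by
    have h1 : centralizer (N : Set G) ≥ N := fun x hx => mem_centralizer_iff.2 fun y hy =>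
      congrArg Subtype.val (hc.is_comm.comm (⟨y, hy⟩ : ↥N) ⟨x, hx⟩)
    rw [hC] at h1
    haveI : Nontrivial ↥N := inferInstance
    exact (Subgroup.nontrivial_iff_ne_bot N).1 inferInstance (le_bot_iff.1 h1)
  have hE := genFitting_eq_of_simple hnc hC
  exact ⟨⟨F, iF, iFF, hF, ⟨(MulEquiv.subgroupCongr hE).trans e⟩⟩, by rw [hE]; exact hC⟩

variable {Z Q : Subgroup G}

/-- The conclusion ascends from a normal subgroup containing `Z`. -/
theorem ascend (h : Setting Z Q) {K : Subgroup G} [hK : K.Normal] (hZK : Z ≤ K) (hu : IsU6Type ↥K) :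
    IsU6Type G := by
  obtain ⟨⟨F, iF, iFF, hF, ⟨e⟩⟩, hC⟩ := hu
  set E := Cfsg.generalizedFittingSubgroup ↥K with hE
  set N := E.map K.subtype with hN
  haveI hEchar : E.Characteristic := genFitting_characteristic
  haveI : N.Normal := ConjAct.normal_of_characteristic_of_normal
  set C := centralizer (N : Set G) with hCdef
  haveI : C.Normal := inferInstance
  have hCK : C ⊓ K = ⊥ := by
    refine (eq_bot_iff_forall _).2 fun x hx => ?_
    have h1 : (⟨x, hx.2⟩ : ↥K) ∈ centralizer (E : Set ↥K) := mem_centralizer_iff.2 fun y hy =>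
      Subtype.ext (mem_centralizer_iff.1 hx.1 _ ⟨y, hy, rfl⟩)
    rw [hC, mem_bot] at h1
    exact congrArg Subtype.val h1
  have hcomm : ∀ c ∈ C, ∀ k ∈ K, c * k = k * c := by
    intro c hc k hk
    have h1 : c * k * c⁻¹ * k⁻¹ ∈ C ⊓ K :=
      mem_inf.2 ⟨by
        rw [show c * k * c⁻¹ * k⁻¹ = c * (k * c⁻¹ * k⁻¹) by group]
        exact mul_mem hc ((inferInstance : C.Normal).conj_mem _ (inv_mem hc) k),
        mul_mem (hK.conj_mem _ hk c) (inv_mem hk)⟩
    rw [hCK, mem_bot, mul_inv_eq_one, mul_inv_eq_iff_eq_mul] at h1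
    exact h1
  have hCH : C ≤ centralizer (Z : Set G) := fun c hc =>
    mem_centralizer_iff.2 fun z hz => (hcomm c hc z (hZK hz)).symm
  have hCQ : C ⊓ Q = ⊥ := by
    haveI hp : Fact (Nat.Prime 3) := ⟨Nat.prime_three⟩
    by_contra hne
    have hsub : (C.subgroupOf Q) ≠ ⊥ := fun e' => hne (by
      rw [subgroupOf_eq_bot] at e'; exact disjoint_iff.1 e')
    haveI : (C.subgroupOf Q).Normal := inferInstance
    haveI hn : (C.subgroupOf Q).Normal := inferInstance
    letI : MulAction ↥Q ↥(C.subgroupOf Q) :=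
      { smul := fun g z => ⟨g * z * g⁻¹, hn.conj_mem _ z.2 g⟩
        one_smul := fun z => Subtype.ext (by show (1 : ↥Q) * z * (1 : ↥Q)⁻¹ = z; simp)
        mul_smul := fun g g' z => Subtype.ext (by
          show g * g' * (z : ↥Q) * (g * g')⁻¹ = g * (g' * (z : ↥Q) * g'⁻¹) * g⁻¹
          group) }
    have hQp := Setting.Q_pgroup h
    have h3 : 3 ∣ Nat.card ↥(C.subgroupOf Q) := by
      obtain ⟨n, hn'⟩ := (hQp.to_subgroup (C.subgroupOf Q)).exists_card_eq
      rw [hn']
      refine dvd_pow_self 3 fun e0 => hsub (Subgroup.eq_bot_of_card_eq _ ?_)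
      rw [hn', e0, pow_zero]
    obtain ⟨x, hx, hx1⟩ := hQp.exists_fixed_point_of_prime_dvd_card_of_fixed_point ↥(C.subgroupOf Q) h3
      (a := (1 : ↥(C.subgroupOf Q))) (fun g => Subtype.ext (by show g * 1 * g⁻¹ = 1; simp))
    refine hx1 ?_
    have hxZ : (x : G) ∈ Z := h.mem_Z_of_comm (x : ↥Q).2 fun y hy => congrArg Subtype.val (mul_inv_eq_iff_eq_mul.1 (congrArg Subtype.val (hx ⟨y, hy⟩) : (⟨y, hy⟩ : ↥Q) * x * (⟨y, hy⟩ : ↥Q)⁻¹ = x))
    have h1 : (x : G) ∈ C ⊓ K := ⟨mem_subgroupOf.1 x.2, hZK hxZ⟩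
    rw [hCK, mem_bot] at h1
    exact (Subtype.ext (Subtype.ext h1)).symm
  have hCbot : C = ⊥ := by
    refine (eq_bot_iff_forall _).2 fun c hc => ?_
    have hcQ : c ∈ centralizer (Q : Set G) := mem_centralizer_iff.2 fun q hq => by
      have h1 : c * q * c⁻¹ * q⁻¹ ∈ C ⊓ Q := mem_inf.2 ⟨by
        rw [show c * q * c⁻¹ * q⁻¹ = c * (q * c⁻¹ * q⁻¹) by group]
        exact mul_mem hc ((inferInstance : C.Normal).conj_mem _ (inv_mem hc) q),
        mul_mem ((mem_normalizer_iff.1 (h.Q_norm (hCH hc)) q).1 hq) (inv_mem hq)⟩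
      rw [hCQ, mem_bot, mul_inv_eq_one, mul_inv_eq_iff_eq_mul] at h1
      exact h1.symm
    rw [h.cent] at hcQ
    have h1 : c ∈ C ⊓ K := ⟨hc, hZK hcQ⟩
    rwa [hCK, mem_bot] at h1
  exact isU6Type_of hF ((E.equivMapOfInjective K.subtype K.subtype_injective).symm.trans e) hCbot

end Cfsg.Agent.UThreeLocal.End
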