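import Cfsg.Agent.Lib.UThreeLocal.End.Recognise
import Cfsg.Agent.Lib.UThreeLocal.Two.Reduce
import Cfsg.Agent.Lib.FiTwentyTwoByTwo.Inner

/-!
# The small case from the local subgroup of the involution

The output of the candidate step, the reduction to `C(r) ≤ N(R)`, and recognition.
-/

set_option autoImplicit false
set_option linter.unusedSectionVars false
set_option linter.style.haveILetI false

namespace Cfsg.Agent.UThreeLocal.End

open Subgroup

universe u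

variable {G : Type u} [Group G] [Finite G]

/-- The extraspecial candidate at the involution `r`, its local subgroup and the signalizer facts. -/
structure CandOut (r : G) : Prop where
  data : ∃ (R A : Subgroup G) (F : Type) (_ : Field F) (_ : Fintype F), Fintype.card F = 3 ∧
    Cfsg.IsExtraspecial 2 ↥R ∧ Nat.card ↥R = 512 ∧ (center ↥R).map R.subtype = zpowers r ∧
    centralizer (R : Set G) = zpowers r ∧
    ((∃ φ : ↥(centralizer ({r} : Set G) ⊓ normalizer (R : Set G)) →* Cfsg.PSp 2 F,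
        Function.Surjective φ ∧ ∀ c, φ c = 1 ↔ (c : G) ∈ R) ∨
      (∃ φ : ↥(centralizer ({r} : Set G) ⊓ normalizer (R : Set G)) →* MulAut (Cfsg.PSp 2 F),
        Function.Surjective φ ∧ ∀ c, φ c = 1 ↔ (c : G) ∈ R)) ∧
    A ≤ centralizer ({r} : Set G) ∧ A ≤ normalizer (R : Set G) ∧ IsMulCommutative ↥A ∧
    (∀ a ∈ A, a ^ 3 = 1) ∧ Nat.card ↥A = 27 ∧ R ⊓ centralizer (A : Set G) ≤ zpowers r ∧
    (∀ K : Subgroup G, K ≤ centralizer ({r} : Set G) → (Nat.card ↥K).Coprime 3 →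
      A ≤ normalizer (K : Set G) → K ≤ R) ∧
    ∀ a ∈ A, a ≠ 1 → centralizer ({a} : Set G) ⊓ centralizer ({r} : Set G) ≤ normalizer (R : Set G)

/-- The simple part with its map onto `PSp₄(3)`; elements acting trivially on it lie in `R`. -/
theorem exists_inner {r : G} {R : Subgroup G} (hRC : R ≤ centralizer ({r} : Set G)) {F : Type} [Field F]
    [Fintype F] (hF : Fintype.card F = 3)
    (hφ : (∃ φ : ↥(centralizer ({r} : Set G) ⊓ normalizer (R : Set G)) →* Cfsg.PSp 2 F,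
        Function.Surjective φ ∧ ∀ c, φ c = 1 ↔ (c : G) ∈ R) ∨
      (∃ φ : ↥(centralizer ({r} : Set G) ⊓ normalizer (R : Set G)) →* MulAut (Cfsg.PSp 2 F),
        Function.Surjective φ ∧ ∀ c, φ c = 1 ↔ (c : G) ∈ R)) :
    ∃ (N0 : Subgroup G) (ψ : ↥N0 →* Cfsg.PSp 2 F), R ≤ N0 ∧
      N0 ≤ centralizer ({r} : Set G) ⊓ normalizer (R : Set G) ∧
      (∀ n ∈ centralizer ({r} : Set G) ⊓ normalizer (R : Set G), ∀ m ∈ N0, n * m * n⁻¹ ∈ N0) ∧
      Function.Surjective ψ ∧ (∀ m, ψ m = 1 ↔ (m : G) ∈ R) ∧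
      (∀ n ∈ centralizer ({r} : Set G) ⊓ normalizer (R : Set G), (∀ m ∈ N0, n * m * n⁻¹ * m⁻¹ ∈ R) → n ∈ R) ∧
      ∀ a ∈ centralizer ({r} : Set G) ⊓ normalizer (R : Set G), a ^ 3 = 1 → a ∈ N0 := by
  classical
  let K := GaloisField 2 2
  letI : Fintype K := Fintype.ofFinite K
  have hK : Fintype.card K = 4 := by
    rw [← Nat.card_eq_fintype_card, GaloisField.card 2 2 (by norm_num)]; norm_num
  obtain ⟨hS, hcS, hcA, hinj⟩ := FiTwentyTwoByTwo.psp_facts hF hK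
  set N := centralizer ({r} : Set G) ⊓ normalizer (R : Set G) with hN
  have hRN : R ≤ N := le_inf hRC le_normalizer
  rcases hφ with ⟨φ, hs, hk⟩ | ⟨φ, hs, hk⟩
  · refine ⟨N, φ, hRN, le_rfl, fun n hn m hm => mul_mem (mul_mem hn hm) (inv_mem hn), hs, hk,
      fun n hn h => ?_, fun a ha _ => ha⟩
    refine (hk ⟨n, hn⟩).1 ?_
    have hc : φ ⟨n, hn⟩ ∈ center (Cfsg.PSp 2 F) := mem_center_iff.2 fun s => by
      obtain ⟨m, rfl⟩ := hs s
      have h1 := (hk (⟨n, hn⟩ * m * ⟨n, hn⟩⁻¹ * m⁻¹)).2 (h m m.2)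
      rw [map_mul, map_mul, map_mul, map_inv, map_inv, mul_inv_eq_one, mul_inv_eq_iff_eq_mul] at h1
      exact h1.symm
    rcases (inferInstance : (center (Cfsg.PSp 2 F)).Normal).eq_bot_or_eq_top with e | e
    · rwa [e, mem_bot] at hc
    · exfalso
      letI : CommGroup (Cfsg.PSp 2 F) :=
        { (inferInstance : Group (Cfsg.PSp 2 F)) with
          mul_comm := fun a b => mem_center_iff.1 (e.ge (mem_top b)) a }
      haveI := hS
      have h1 := IsSimpleGroup.prime_card (α := Cfsg.PSp 2 F)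
      rw [hcS] at h1
      exact absurd h1 (by norm_num)
  · set I := (MulAut.conj : Cfsg.PSp 2 F →* MulAut (Cfsg.PSp 2 F)).range with hI
    set N0 := (I.comap φ).map N.subtype with hN0
    have hmem : ∀ x : ↥N, (x : G) ∈ N0 ↔ φ x ∈ I := fun x =>
      ⟨fun ⟨y, hy, e⟩ => by rwa [← Subtype.ext e], fun h => ⟨x, h, rfl⟩⟩
    have hle : N0 ≤ N := map_subtype_le _
    have hIn : I.Normal := ⟨fun f ⟨s, hfs⟩ g => ⟨g s, by
      rw [← hfs]; exact MulEquiv.ext fun x => by simp [MulAut.conj_apply]⟩⟩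
    let e := (MonoidHom.ofInjective hinj).symm
    refine ⟨N0, e.toMonoidHom.comp ((φ.comp (Subgroup.inclusion hle)).codRestrict I
      fun m => (hmem ⟨m, hle m.2⟩).1 m.2), fun x hx => (hmem ⟨x, hRN hx⟩).2 ?_, hle, ?_, ?_, ?_, ?_, ?_⟩
    · rw [(hk ⟨x, hRN hx⟩).2 hx]; exact one_mem _
    · intro n hn m hm
      exact (hmem (⟨n, hn⟩ * ⟨m, hle hm⟩ * ⟨n, hn⟩⁻¹)).2 (by
        rw [map_mul, map_mul, map_inv]; exact hIn.conj_mem _ ((hmem ⟨m, hle hm⟩).1 hm) _)
    · intro s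
      obtain ⟨x, hx⟩ := hs (MulAut.conj s)
      refine ⟨⟨x, (hmem x).2 (hx ▸ ⟨s, rfl⟩)⟩, ?_⟩
      refine e.symm.injective (Subtype.ext ?_)
      rw [MonoidHom.comp_apply, MulEquiv.coe_toMonoidHom, MulEquiv.symm_apply_apply]
      exact hx
    · intro m
      rw [MonoidHom.comp_apply, MulEquiv.coe_toMonoidHom, EmbeddingLike.map_eq_one_iff, Subtype.ext_iff]
      exact hk _
    · intro n hn h
      refine (hk ⟨n, hn⟩).1 (MulEquiv.ext fun s => hinj ?_)
      obtain ⟨x, hx⟩ := hs (MulAut.conj s)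
      have h1 := (hk (⟨n, hn⟩ * x * ⟨n, hn⟩⁻¹ * x⁻¹)).2 (h x ((hmem x).2 (hx ▸ ⟨s, rfl⟩)))
      rw [map_mul, map_mul, map_mul, map_inv, map_inv, hx, mul_inv_eq_one] at h1
      rw [MulAut.one_apply]
      refine Eq.trans ?_ h1
      exact MulEquiv.ext fun y => by simp [MulAut.conj_apply]
    · intro a ha ha3
      refine (hmem ⟨a, ha⟩).2 ?_
      haveI := hIn
      haveI : Finite (MulAut (Cfsg.PSp 2 F)) := Nat.finite_of_card_ne_zero (by rw [hcA]; norm_num)
      have hidx : I.index = 2 := by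
        have h1 := I.card_mul_index
        rw [Nat.card_congr (MonoidHom.ofInjective hinj).symm.toEquiv, hcS, hcA] at h1
        omega
      exact mem_of_coprime_index (n := 3)
        (by rw [← map_pow, show (⟨a, ha⟩ : ↥N) ^ 3 = 1 from Subtype.ext ha3, map_one]) (by rw [hidx]; norm_num)

/-- The small case. -/
theorem small_of_cand {Z Q Q1 Q2 L1 L2 E : Subgroup G} {t1 t2 z y a1 a2 : G}
    (h : Local Z Q Q1 Q2 L1 L2 E t1 t2 z y a1 a2) (hc : CandOut t2) : IsU6Type G := by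
  obtain ⟨R, A, F, iF, iFF, hF, hR, hRc, hZR, hCR, hφ, hAC, hAN, hAcomm, hAexp, hA27, hAR, hsig, hcent⟩ :=
    hc.data
  obtain ⟨N0, ψ, hR0, hN0, hnorm, hψs, hψk, hfaith, hthree⟩ := exists_inner (R_le_cent hZR) hF hφ
  have hA0 : A ≤ N0 := fun a ha => hthree a ⟨hAC ha, hAN ha⟩ (hAexp a ha)
  have hMN := Two.centralizer_le_normalizer h.frame.t2_two R hR hRc hZR hCR hF N0 hR0 hN0 hnorm ψ hψs hψk
    A hAC hAN hAcomm hAexp (Or.inl ⟨hA27, hfaith⟩) (by rwa [inf_eq_left.2 hA0]) hsig hcent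
  exact recognise h hR hRc hZR hCR hMN hF hφ

end Cfsg.Agent.UThreeLocal.End
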