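import Cfsg.Agent.Lib.UThreeLocal.Loc.KNormal

/-!
# A character of `N(Z)` gives a normal subgroup of index three

Transfer: the value at an element `u` centralising `Q₂` only comes from the coset `N(Z)`, since no other
orbit of `⟨u⟩` on the conjugates of `Z` is invariant under `Q₂`.
-/

set_option autoImplicit false
set_option linter.unusedSectionVars false
set_option linter.style.haveILetI false

namespace Cfsg.Agent.UThreeLocal.End

open Subgroup MulAction
open scoped commutatorElement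

universe u

/-- A product invariant under a 3-group with one fixed point. -/
theorem prod_eq_of_fixed {D Ω A : Type*} [Group D] [MulAction D Ω] [Fintype Ω] [CommGroup A]
    (hA : ∀ a : A, a ^ 3 = 1) (hD : IsPGroup 3 D) (f : Ω → A) (hinv : ∀ (d : D) ω, f (d • ω) = f ω)
    (p : Ω) (hp : ∀ d : D, d • p = p) (hfix : ∀ ω, (∀ d : D, d • ω = ω) → ω = p) :
    ∏ ω, f ω = f p := by
  classical
  haveI : Fact (Nat.Prime 3) := ⟨Nat.prime_three⟩
  rw [← Finset.prod_fiberwise (Finset.univ : Finset Ω) (fun ω => (Quotient.mk'' ω : orbitRel.Quotient D Ω)) f]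
  set o : orbitRel.Quotient D Ω := Quotient.mk'' p with ho
  rw [Finset.prod_eq_single o]
  · have hs : (Finset.univ : Finset Ω).filter (fun ω => (Quotient.mk'' ω : orbitRel.Quotient D Ω) = o) = {p} := by
      ext ω
      simp only [Finset.mem_filter, Finset.mem_univ, true_and, Finset.mem_singleton]
      refine ⟨fun h => ?_, fun h => h ▸ ho.symm⟩
      obtain ⟨d, hd⟩ := Quotient.eq''.1 h
      rw [← hd]
      exact hp d
    rw [hs, Finset.prod_singleton]
  · intro q _ hq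
    induction q using Quotient.inductionOn' with
    | h w =>
      obtain ⟨n, hn⟩ := hD.card_orbit w
      have hcard : ((Finset.univ : Finset Ω).filter
          (fun ω => (Quotient.mk'' ω : orbitRel.Quotient D Ω) = Quotient.mk'' w)).card = 3 ^ n := by
        rw [← hn, Nat.card_eq_fintype_card, ← Set.toFinset_card]
        congr 1
        ext ω
        simp only [Finset.mem_filter, Finset.mem_univ, true_and, Set.mem_toFinset]
        exact Quotient.eq''
      rw [Finset.prod_eq_pow_card (b := f w) fun ω hω => ?_, hcard]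
      · rcases Nat.eq_zero_or_pos n with rfl | h0
        · exfalso
          refine hq ?_
          rw [hfix w fun d => ?_]
          rw [pow_zero, Nat.card_eq_one_iff_unique] at hn
          exact congrArg Subtype.val (hn.1.elim ⟨d • w, mem_orbit w d⟩ ⟨w, mem_orbit_self w⟩)
        · obtain ⟨j, rfl⟩ := Nat.exists_eq_add_of_le h0
          rw [pow_add, pow_one, pow_mul, hA, one_pow]
      · simp only [Finset.mem_filter, Finset.mem_univ, true_and] at hω
        obtain ⟨d, hd⟩ := Quotient.eq''.1 hω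
        rw [← hd]
        exact hinv d w
  · intro h
    exact absurd (Finset.mem_univ o) h

variable {G : Type u} [Group G] [Finite G]

/-- The transfer from `N` at an element of `N` centralised by a 3-subgroup `D ≤ N` which leaves no other
orbit of `⟨u⟩` invariant. -/
theorem transfer_eq {A : Type*} [CommGroup A] (hA : ∀ a : A, a ^ 3 = 1) {N D : Subgroup G}
    (hD : IsPGroup 3 ↥D) (hDN : D ≤ N) (φ : ↥N →* A) {u : G} (hu : u ∈ N)
    (hcomm : ∀ d ∈ D, Commute d u)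
    (hfix : ∀ g : G, (∀ d ∈ D, ∃ k : ℤ, g⁻¹ * u ^ k * d * g ∈ N) → g ∈ N) :
    φ.transfer u = φ ⟨u, hu⟩ := by
  classical
  haveI : Fintype (Quotient (orbitRel (zpowers u) (G ⧸ N))) := Fintype.ofFinite _
  rw [MonoidHom.transfer_eq_prod_quotient_orbitRel_zpowers_quot]
  set Ω := Quotient (orbitRel (zpowers u) (G ⧸ N))
  set f : Ω → A := fun q => φ ⟨q.out.out⁻¹ * u ^ Function.minimalPeriod (u • ·) q.out * q.out.out,
    QuotientGroup.out_conj_pow_minimalPeriod_mem N u q.out⟩ with hf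
  -- the value does not depend on the representative
  have key : ∀ (x g n : G) (m : ℕ), Commute x u → n ∈ N →
      ∀ (h : g⁻¹ * u ^ m * g ∈ N) (h' : (x * g * n)⁻¹ * u ^ m * (x * g * n) ∈ N),
      φ ⟨_, h'⟩ = φ ⟨_, h⟩ := by
    intro x g n m hx hn h h'
    have e : (⟨_, h'⟩ : ↥N) = ⟨n, hn⟩⁻¹ * ⟨_, h⟩ * ⟨n, hn⟩ := Subtype.ext (by
      show (x * g * n)⁻¹ * u ^ m * (x * g * n) = n⁻¹ * (g⁻¹ * u ^ m * g) * n
      calc (x * g * n)⁻¹ * u ^ m * (x * g * n) = n⁻¹ * g⁻¹ * (x⁻¹ * (u ^ m * x)) * g * n := by group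
        _ = _ := by rw [← (hx.pow_right m).eq]; group)
    rw [e, map_mul, map_mul, map_inv, mul_comm (φ ⟨n, hn⟩)⁻¹, inv_mul_cancel_right]
  have hval : ∀ (ω : Ω) (g : G), (Quotient.mk'' (g : G ⧸ N) : Ω) = ω →
      ∃ x : G, x ∈ zpowers u ∧ ∃ n ∈ N, ω.out.out = x * g * n := by
    intro ω g hg
    obtain ⟨⟨x, hx⟩, hxe⟩ := Quotient.eq''.1 ((Quotient.out_eq' ω).trans hg.symm)
    refine ⟨x, hx, (x * g)⁻¹ * ω.out.out, ?_, by group⟩
    refine QuotientGroup.eq.1 ?_
    rw [QuotientGroup.out_eq', ← hxe]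
    rfl
  have hper : ∀ (x : G), Commute x u → ∀ a : G ⧸ N,
      Function.minimalPeriod (u • ·) (x • a) = Function.minimalPeriod (u • ·) a := by
    intro x hx a
    have h1 : ∀ n : ℕ, u ^ n • (x • a) = x • a ↔ u ^ n • a = a := fun n => by
      rw [smul_smul, ← (hx.pow_right n).eq, ← smul_smul]
      exact ⟨fun e => MulAction.injective x e, fun e => by rw [e]⟩
    refine Nat.dvd_antisymm ?_ ?_
    · exact pow_smul_eq_iff_minimalPeriod_dvd.1 ((h1 _).2 (pow_smul_eq_iff_minimalPeriod_dvd.2 dvd_rfl))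
    · exact pow_smul_eq_iff_minimalPeriod_dvd.1 ((h1 _).1 (pow_smul_eq_iff_minimalPeriod_dvd.2 dvd_rfl))
  -- the action of `D` on the orbits
  have hmap : ∀ d : ↥D, ∀ a b : G ⧸ N, orbitRel (zpowers u) (G ⧸ N) a b →
      orbitRel (zpowers u) (G ⧸ N) ((d : G) • a) ((d : G) • b) := by
    rintro d a b ⟨⟨x, hx⟩, hxe⟩
    obtain ⟨k, rfl⟩ := mem_zpowers_iff.1 hx
    refine ⟨⟨u ^ k, hx⟩, ?_⟩
    show u ^ k • ((d : G) • b) = (d : G) • a
    rw [← hxe, smul_smul, ← ((hcomm _ d.2).zpow_right k).eq, ← smul_smul]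
    rfl
  letI : MulAction ↥D Ω :=
    { smul := fun d => Quotient.map' (fun a => (d : G) • a) (hmap d)
      one_smul := fun ω => Quotient.inductionOn' ω fun a => congrArg Quotient.mk'' (one_smul G a)
      mul_smul := fun d d' ω => Quotient.inductionOn' ω fun a =>
        congrArg Quotient.mk'' (mul_smul (d : G) d' a) }
  have hsm : ∀ (d : ↥D) (g : G), d • (Quotient.mk'' (g : G ⧸ N) : Ω) =
      Quotient.mk'' (((d : G) * g : G) : G ⧸ N) := fun _ _ => rfl
  have hperiod : ∀ (ω : Ω) (g : G), (Quotient.mk'' (g : G ⧸ N) : Ω) = ω →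
      Function.minimalPeriod (u • ·) ω.out = Function.minimalPeriod (u • ·) (g : G ⧸ N) := by
    intro ω g hg
    obtain ⟨x, hx, n, hn, e⟩ := hval ω g hg
    obtain ⟨k, rfl⟩ := mem_zpowers_iff.1 hx
    rw [show ω.out = (u ^ k) • (g : G ⧸ N) by
      rw [← QuotientGroup.out_eq' ω.out, e]
      exact QuotientGroup.eq.2 (by
        show (u ^ k * g * n)⁻¹ * (u ^ k * g) ∈ N
        rw [show (u ^ k * g * n)⁻¹ * (u ^ k * g) = n⁻¹ by group]; exact inv_mem hn),
      hper _ (Commute.zpow_left (Commute.refl u) k)]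
  have hfval : ∀ (q : Ω) (g : G) (m : ℕ), q.out.out = g → Function.minimalPeriod (u • ·) q.out = m →
      ∀ h : g⁻¹ * u ^ m * g ∈ N, f q = φ ⟨_, h⟩ := by
    intro q g m e1 e2 h
    subst e1 e2
    rfl
  have hfinv : ∀ (d : ↥D) (ω : Ω), f (d • ω) = f ω := by
    intro d ω
    have hω : (Quotient.mk'' ((ω.out.out : G) : G ⧸ N) : Ω) = ω := by
      rw [QuotientGroup.out_eq', Quotient.out_eq']
    have hdω : (Quotient.mk'' ((((d : G) * ω.out.out) : G) : G ⧸ N) : Ω) = d • ω := by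
      rw [← hsm, hω]
    obtain ⟨x, hx, n, hn, e⟩ := hval _ _ hdω
    obtain ⟨k, rfl⟩ := mem_zpowers_iff.1 hx
    have hm : Function.minimalPeriod (u • ·) (d • ω).out = Function.minimalPeriod (u • ·) ω.out := by
      rw [hperiod _ _ hdω, show (((d : G) * ω.out.out : G) : G ⧸ N) = (d : G) • ω.out by
        conv_rhs => rw [← QuotientGroup.out_eq' ω.out]
        rfl, hper _ (hcomm _ d.2)]
    have e2 : (d • ω).out.out = u ^ k * d * ω.out.out * n := by rw [e]; group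
    have h' : (u ^ k * d * ω.out.out * n)⁻¹ * u ^ Function.minimalPeriod (u • ·) ω.out *
        (u ^ k * d * ω.out.out * n) ∈ N := by
      rw [← e2, ← hm]
      exact QuotientGroup.out_conj_pow_minimalPeriod_mem N u _
    rw [hfval _ _ _ e2 hm h', key (u ^ k * d) ω.out.out n _
      ((Commute.zpow_left (Commute.refl u) k).mul_left (hcomm _ d.2)) hn
      (QuotientGroup.out_conj_pow_minimalPeriod_mem N u ω.out) h']
  set p : Ω := Quotient.mk'' ((1 : G) : G ⧸ N) with hp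
  have hpfix : ∀ d : ↥D, d • p = p := fun d => by
    rw [hp, hsm, mul_one]
    exact congrArg Quotient.mk'' (QuotientGroup.eq.2 (by rw [mul_one]; exact inv_mem (hDN d.2)))
  have huniq : ∀ ω : Ω, (∀ d : ↥D, d • ω = ω) → ω = p := by
    intro ω hω
    induction ω using Quotient.inductionOn' with
    | h a =>
      induction a using QuotientGroup.induction_on with
      | H g =>
        have hg : g ∈ N := hfix g fun d hd => by
          obtain ⟨⟨x, hx⟩, hxe⟩ := Quotient.eq''.1 ((hsm ⟨d, hd⟩ g).symm.trans (hω ⟨d, hd⟩))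
          obtain ⟨k, rfl⟩ := mem_zpowers_iff.1 hx
          refine ⟨-k, ?_⟩
          have h1 : ((u ^ k * g : G) : G ⧸ N) = ((d * g : G) : G ⧸ N) := hxe
          have h2 := QuotientGroup.eq.1 h1
          rwa [show (u ^ k * g)⁻¹ * (d * g) = g⁻¹ * u ^ (-k) * d * g by group] at h2
        exact congrArg Quotient.mk'' (QuotientGroup.eq.2 (by rw [mul_one]; exact inv_mem hg))
  refine (Eq.trans (by convert rfl) (prod_eq_of_fixed hA hD f hfinv p hpfix huniq)).trans ?_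
  obtain ⟨x, hx, n, hn, e⟩ := hval p 1 rfl
  obtain ⟨k, rfl⟩ := mem_zpowers_iff.1 hx
  have hm : Function.minimalPeriod (u • ·) p.out = 1 := by
    rw [hperiod p 1 rfl, Function.minimalPeriod_eq_one_iff_isFixedPt]
    exact QuotientGroup.eq.2 (by simpa using inv_mem hu)
  have h' : (u ^ k * 1 * n)⁻¹ * u ^ 1 * (u ^ k * 1 * n) ∈ N := by
    rw [← e, ← hm]
    exact QuotientGroup.out_conj_pow_minimalPeriod_mem N u _
  have h0 : (1 : G)⁻¹ * u ^ 1 * 1 ∈ N := by simpa using hu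
  refine Eq.trans ?_ ((key (u ^ k) 1 n 1 (Commute.zpow_left (Commute.refl u) k) hn h0 h').trans ?_)
  · exact hfval p _ _ e hm h'
  · exact congrArg φ (Subtype.ext (by simp))

theorem mult_cube : ∀ a : Multiplicative (ZMod 3), a ^ 3 = 1 := by decide

theorem mult_sq : ∀ a : Multiplicative (ZMod 3), a * a = 1 → a = 1 := by decide

variable {Z Q Q1 Q2 L1 L2 : Subgroup G} {t1 t2 : G}

theorem conj_pow_central {g x w : G} (h : g * x * g⁻¹ = w * x) (hw : g * w * g⁻¹ = w) (n : ℕ) :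
    g ^ n * x * (g ^ n)⁻¹ = w ^ n * x := by
  induction n with
  | zero => simp
  | succ n ih =>
    rw [pow_succ', show g * g ^ n * x * (g * g ^ n)⁻¹ = g * (g ^ n * x * (g ^ n)⁻¹) * g⁻¹ by group, ih,
      show g * (w ^ n * x) * g⁻¹ = (g * w * g⁻¹) ^ n * (g * x * g⁻¹) by rw [conj_pow]; group,
      hw, h, ← mul_assoc, ← pow_succ]

/-- An element inducing the identity on `Q₂/Z` becomes central on `Q₂` after a correction in `Q₂`. -/
theorem exists_cent_correct (F : Frame Z Q Q1 Q2 L1 L2 t1 t2) {c : G} (hc : c ∈ centralizer (Z : Set G))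
    (ht : Triv Z Q2 c) : ∃ q ∈ Q2, q⁻¹ * c ∈ centralizer (Q2 : Set G) := by
  have h := F.set
  obtain ⟨a, ha, haZ⟩ := F.symm.exists_notZ
  obtain ⟨b, hb, hab⟩ := F.pair.symm.exists_noncomm h ha haZ
  have haQ := F.pair.le2 ha
  have hbQ := F.pair.le2 hb
  set w := ⁅a, b⁆ with hw
  have hwZ : w ∈ Z := h.comm_mem haQ hbQ
  have hw1 : w ≠ 1 := fun e => hab (commutatorElement_eq_one_iff_mul_comm.1 e)
  have hfix : ∀ g ∈ Q, g * w * g⁻¹ = w := fun g hg => h.conj_Z (h.Q_le hg) hwZ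
  have hex : ∀ x ∈ Z, ∃ n : ℕ, w ^ n = x := fun x hx =>
    (Submonoid.mem_powers_iff _ _).1 ((isOfFinOrder_of_finite w).mem_powers_iff_mem_zpowers.2
      ((zpowers_eq_of_prime h.Z_card hwZ hw1).ge hx))
  obtain ⟨m, hm⟩ := hex _ (ht a ha)
  obtain ⟨n, hn⟩ := hex _ (ht b hb)
  have h1 : a * b * a⁻¹ = w * b := by rw [hw, commutatorElement_def]; group
  have h2 : b * a * b⁻¹ = w⁻¹ * a := by rw [hw, commutatorElement_def]; group
  have hbw : b * w⁻¹ * b⁻¹ = w⁻¹ := by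
    rw [show b * w⁻¹ * b⁻¹ = (b * w * b⁻¹)⁻¹ by group, hfix b hbQ]
  refine ⟨a ^ n * b ^ (2 * m), mul_mem (pow_mem ha n) (pow_mem hb _), ?_⟩
  set q := a ^ n * b ^ (2 * m) with hq
  have hqQ : q ∈ Q := mul_mem (pow_mem haQ n) (pow_mem hbQ _)
  have hw3 : (w⁻¹) ^ (2 * m) = w ^ m := by
    rw [inv_pow, inv_eq_iff_mul_eq_one, ← pow_add, show 2 * m + m = 3 * m by ring, pow_mul, h.Z_cube hwZ, one_pow]
  have hqa : q * a * q⁻¹ = c * a * c⁻¹ := by
    calc q * a * q⁻¹ = a ^ n * (b ^ (2 * m) * a * (b ^ (2 * m))⁻¹) * (a ^ n)⁻¹ := by rw [hq]; group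
      _ = a ^ n * (w ^ m * a) * (a ^ n)⁻¹ := by rw [conj_pow_central h2 hbw, hw3]
      _ = (a ^ n * w ^ m * (a ^ n)⁻¹) * a := by group
      _ = w ^ m * a := by rw [h.conj_Z (h.Q_le (pow_mem haQ n)) (pow_mem hwZ m)]
      _ = c * a * c⁻¹ := by rw [hm, h.comm_Z haQ (ht a ha), mul_inv_cancel_left]
  have hqb : q * b * q⁻¹ = c * b * c⁻¹ := by
    calc q * b * q⁻¹ = a ^ n * b * (a ^ n)⁻¹ := by rw [hq]; group
      _ = w ^ n * b := conj_pow_central h1 (hfix a haQ) n
      _ = c * b * c⁻¹ := by rw [hn, h.comm_Z hbQ (ht b hb), mul_inv_cancel_left]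
  have hgen : ∀ x, q * x * q⁻¹ = c * x * c⁻¹ → q⁻¹ * c * x = x * (q⁻¹ * c) := fun x e => by
    calc q⁻¹ * c * x = q⁻¹ * (c * x * c⁻¹) * c := by group
      _ = x * (q⁻¹ * c) := by rw [← e]; group
  exact F.pair.symm.cent_of_gens h ha hb hab (mul_mem (inv_mem (h.Q_le hqQ)) hc) (hgen a hqa) (hgen b hqb)

/-- A character of `N(Z)` nontrivial on a Sylow 3-subgroup of `C(Z)` yields a normal subgroup of index
three. -/
theorem exists_index_three (F : Frame Z Q Q1 Q2 L1 L2 t1 t2) (P : Subgroup G) (hP : IsPGroup 3 ↥P)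
    (hPC : P ≤ centralizer (Z : Set G)) (hPc : Nat.card ↥P = 2187)
    (φ : ↥(normalizer (Z : Set G)) →* Multiplicative (ZMod 3)) (c : ↥(normalizer (Z : Set G)))
    (hc : (c : G) ∈ P) (hφc : φ c ≠ 1) :
    ∃ K : Subgroup G, K.Normal ∧ K.index = 3 ∧ Z ≤ K ∧ ¬ normalizer (Z : Set G) ≤ K := by
  classical
  haveI : Fact (Nat.Prime 3) := ⟨Nat.prime_three⟩
  have h := F.set
  revert hφc hc c φ
  set N := normalizer (Z : Set G) with hN
  intro φ c hc hφc
  have hCN : centralizer (Z : Set G) ≤ N := centralizer_le_normalizer _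
  -- `Z` consists of commutators
  obtain ⟨a, ha, haZ⟩ := F.exists_notZ
  obtain ⟨b, hb, hab⟩ := F.pair.exists_noncomm h ha haZ
  have hZc : zpowers ⁅a, b⁆ = Z := zpowers_eq_of_prime h.Z_card (h.comm_mem (F.pair.le1 ha) (F.pair.le1 hb))
    fun e => hab (commutatorElement_eq_one_iff_mul_comm.1 e)
  have hQN : Q ≤ N := h.Q_le.trans hCN
  have hφZ : ∀ x ∈ Z, ∀ hx : x ∈ N, φ ⟨x, hx⟩ = 1 := by
    intro x hx hxN
    obtain ⟨k, rfl⟩ := mem_zpowers_iff.1 (hZc.ge hx)
    let a' : ↥N := ⟨a, hQN (F.pair.le1 ha)⟩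
    let b' : ↥N := ⟨b, hQN (F.pair.le1 hb)⟩
    rw [show (⟨_, hxN⟩ : ↥N) = ⁅a', b'⁆ ^ k from Subtype.ext rfl, map_zpow, map_commutatorElement,
      commutatorElement_eq_one_iff_mul_comm.2 (mul_comm _ _), one_zpow]
  have hφQ : ∀ x ∈ Q, ∀ hx : x ∈ N, φ ⟨x, hx⟩ = 1 := by
    have key : ∀ (t : G) (htC : t ∈ centralizer (Z : Set G)) (x : G) (hxQ : x ∈ Q),
        t * x * t⁻¹ * x ∈ Z → φ ⟨x, hQN hxQ⟩ = 1 := by
      intro t htC x hxQ hz
      refine mult_sq _ ?_
      have h1 := hφZ _ hz (hCN ((h.Z_le.trans h.Q_le) hz))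
      rw [show (⟨t * x * t⁻¹ * x, _⟩ : ↥N) = ⟨t, hCN htC⟩ * ⟨x, hQN hxQ⟩ * ⟨t, hCN htC⟩⁻¹ * ⟨x, hQN hxQ⟩
        from Subtype.ext rfl, map_mul, map_mul, map_mul, map_inv, mul_inv_cancel_comm] at h1
      exact h1
    intro x hx hxN
    obtain ⟨u, hu, v, hv, rfl⟩ := F.pair.dec x hx
    rw [show (⟨u * v, hxN⟩ : ↥N) = ⟨u, hQN (F.pair.le1 hu)⟩ * ⟨v, hQN (F.pair.le2 hv)⟩ from Subtype.ext rfl,
      map_mul, key t1 (F.L1_le F.t1_mem) u (F.pair.le1 hu) (F.t1_inv u hu),
      key t2 (F.L2_le F.t2_mem) v (F.pair.le2 hv) (F.t2_inv v hv), mul_one]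
  -- an element trivial on one factor
  obtain ⟨d, hdP, hdN, hdφ, hside⟩ : ∃ d ∈ P, ∃ hdN : d ∈ N, φ ⟨d, hdN⟩ ≠ 1 ∧
      (Triv Z Q1 d ∨ Triv Z Q2 d) := by
    obtain ⟨χ1, h1⟩ := F.exists_char hP hPC
    obtain ⟨χ2, h2⟩ := F.symm.exists_char hP hPC
    set Φ := χ1.prod χ2 with hΦ
    have hker : Nat.card ↥Φ.ker ≤ 243 := by
      rw [← h.Q_card, ← card_subtype P Φ.ker]
      refine Subgroup.card_le_of_le ?_
      rintro _ ⟨g, hg, rfl⟩
      have hg' : (χ1 g, χ2 g) = (1, 1) := hg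
      exact F.mem_Q_of_triv (hPC g.2) ((h1 g).1 (Prod.mk.inj hg').1) ((h2 g).1 (Prod.mk.inj hg').2)
    have hrange : Φ.range = ⊤ := by
      refine Subgroup.eq_top_of_le_card _ ?_
      have h3 := Φ.ker.card_mul_index
      rw [index_ker, hPc] at h3
      rw [Nat.card_prod, show Nat.card (Multiplicative (ZMod 3)) = 3 by simp]
      by_contra hlt
      push Not at hlt
      have : Nat.card ↥Φ.ker * Nat.card ↥Φ.range ≤ 243 * 8 := Nat.mul_le_mul hker (by omega)
      omega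
    obtain ⟨g, hg⟩ : (χ1 ⟨c, hc⟩, (1 : Multiplicative (ZMod 3))) ∈ Φ.range := hrange ▸ mem_top _
    have hg' : (χ1 g, χ2 g) = (χ1 ⟨c, hc⟩, 1) := hg
    obtain ⟨hg1, hg2⟩ := Prod.mk.inj hg'
    have hgN : (g : G) ∈ N := hCN (hPC g.2)
    by_cases hφg : φ ⟨g, hgN⟩ = 1
    · refine ⟨(g : G)⁻¹ * c, mul_mem (inv_mem g.2) hc, mul_mem (inv_mem hgN) c.2, ?_, Or.inl ?_⟩
      · rw [show (⟨(g : G)⁻¹ * c, _⟩ : ↥N) = ⟨g, hgN⟩⁻¹ * c from Subtype.ext rfl, map_mul, map_inv, hφg,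
          inv_one, one_mul]
        exact hφc
      · refine (h1 (g⁻¹ * ⟨c, hc⟩)).1 ?_
        rw [map_mul, map_inv, hg1, inv_mul_cancel]
    · exact ⟨g, g.2, hgN, hφg, Or.inr ((h2 g).1 hg2)⟩
  -- the transfer
  have main : ∀ {Q1 Q2 L1 L2 : Subgroup G} {t1 t2 : G}, Frame Z Q Q1 Q2 L1 L2 t1 t2 → ∀ (hdN : d ∈ N),
      φ ⟨d, hdN⟩ ≠ 1 → Triv Z Q2 d → ∃ u ∈ N, φ.transfer u ≠ 1 := by
    intro Q1 Q2 L1 L2 t1 t2 F hdN hdφ ht
    obtain ⟨q, hq, hu2⟩ := exists_cent_correct F (hPC hdP) ht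
    set u := q⁻¹ * d with hu
    have hqC : q ∈ centralizer (Z : Set G) := h.Q_le (F.pair.le2 hq)
    have huC : u ∈ centralizer (Z : Set G) := mul_mem (inv_mem hqC) (hPC hdP)
    have huQ2 : ∀ x ∈ Q2, Commute x u := fun x hx => mem_centralizer_iff.1 hu2 x hx
    refine ⟨u, hCN huC, ?_⟩
    rw [transfer_eq mult_cube (IsPGroup.of_card (n := 3) (by rw [F.pair.card2]; norm_num) : IsPGroup 3 ↥Q2)
      ((F.pair.le2).trans hQN) φ (hCN huC) huQ2 ?_]
    · rw [show (⟨u, hCN huC⟩ : ↥N) = ⟨q, hCN hqC⟩⁻¹ * ⟨d, hdN⟩ from Subtype.ext rfl, map_mul, map_inv,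
        hφQ q (F.pair.le2 hq), inv_one, one_mul]
      exact hdφ
    intro g hg
    obtain ⟨z, hz, hz1⟩ := h.exists_z
    set w := g * z * g⁻¹ with hw
    have hwpt : IsPt Z w := ⟨g, z, hz, hz1, rfl⟩
    have hk : ∀ x ∈ Q2, ∃ k : ℤ, Commute w (u ^ k * x) := by
      intro x hx
      obtain ⟨k, hk⟩ := hg (x * x) (mul_mem hx hx)
      refine ⟨2 * k, ?_⟩
      set e := u ^ k * (x * x) with he
      have heN : g⁻¹ * e * g ∈ N := by rwa [show g⁻¹ * e * g = g⁻¹ * u ^ k * (x * x) * g by rw [he]; group]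
      set e' := g⁻¹ * e * g with he'
      have hmem := (mem_normalizer_iff.1 heN z).1 hz
      obtain ⟨i, hi⟩ := mem_zpowers_iff.1 ((zpowers_eq_of_prime h.Z_card hz hz1).ge hmem)
      have hsq : e' * e' * z * (e' * e')⁻¹ = z := by
        calc e' * e' * z * (e' * e')⁻¹ = e' * (e' * z * e'⁻¹) * e'⁻¹ := by group
          _ = (e' * z * e'⁻¹) ^ i := by rw [conj_zpow, hi]
          _ = z ^ (i * i) := by rw [← hi, zpow_mul]
          _ = z := by
            have hz3 : z ^ (3 : ℤ) = 1 := by exact_mod_cast h.Z_cube hz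
            have hi3 : i % 3 ≠ 0 := fun e0 => hz1 (by
              have : e' * z * e'⁻¹ = 1 := by
                rw [← hi, ← Int.emod_add_mul_ediv i 3, e0, zero_add, zpow_mul, hz3, one_zpow]
              exact conj_eq_one_iff.1 this)
            have hi1 : i * i % 3 = 1 := by
              rw [Int.mul_emod]
              rcases (show i % 3 = 1 ∨ i % 3 = 2 by omega) with e0 | e0 <;> rw [e0] <;> rfl
            rw [← Int.emod_add_mul_ediv (i * i) 3, hi1, zpow_add, zpow_mul, hz3, one_zpow, mul_one, zpow_one]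
      have hee : e * e = u ^ (2 * k) * x := by
        have hx4 : x * x * (x * x) = x := by
          have h3 := F.cube x (F.pair.le2 hx)
          rw [pow_succ, pow_two] at h3
          rw [← mul_assoc, h3, one_mul]
        have hcx : Commute (x * x) (u ^ k) := ((huQ2 x hx).mul_left (huQ2 x hx)).zpow_right k
        calc e * e = u ^ k * ((x * x) * u ^ k) * (x * x) := by rw [he]; group
          _ = u ^ k * (u ^ k * (x * x)) * (x * x) := by rw [hcx.eq]
          _ = (u ^ k * u ^ k) * (x * x * (x * x)) := by group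
          _ = u ^ (2 * k) * x := by rw [hx4, ← zpow_add, two_mul]
      rw [← hee]
      refine (mul_inv_eq_iff_eq_mul.1 ?_).symm
      calc e * e * w * (e * e)⁻¹ = g * (e' * e' * z * (e' * e')⁻¹) * g⁻¹ := by rw [hw, he']; group
        _ = w := by rw [hsq]
    have hwC : w ∈ centralizer (Z : Set G) := by
      obtain ⟨a2, ha2, ha2Z⟩ := F.symm.exists_notZ
      obtain ⟨b2, hb2, hab2⟩ := F.pair.symm.exists_noncomm h ha2 ha2Z
      obtain ⟨ka, hka⟩ := hk a2 ha2
      obtain ⟨kb, hkb⟩ := hk b2 hb2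
      have e : ⁅u ^ ka * a2, u ^ kb * b2⁆ = ⁅a2, b2⁆ := by
        have c1 : Commute a2 (u ^ kb) := (huQ2 a2 ha2).zpow_right kb
        have c2 : Commute b2 (u ^ ka) := (huQ2 b2 hb2).zpow_right ka
        have c3 : Commute (u ^ ka) (u ^ kb) := (Commute.refl u).zpow_zpow ka kb
        have e1 : ⁅u ^ ka * a2, u ^ kb * b2⁆ = u ^ ka * (a2 * (u ^ kb * b2)) * a2⁻¹ * (u ^ ka)⁻¹ *
            b2⁻¹ * (u ^ kb)⁻¹ := by rw [commutatorElement_def]; group
        have c4 : ∀ s : G, Commute s (u ^ ka) → u ^ ka * s * (u ^ ka)⁻¹ = s := fun s hs => by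
          rw [← hs.eq, mul_inv_cancel_right]
        calc ⁅u ^ ka * a2, u ^ kb * b2⁆ = u ^ ka * (a2 * u ^ kb * b2 * a2⁻¹) * (u ^ ka)⁻¹ *
              b2⁻¹ * (u ^ kb)⁻¹ := by rw [e1]; group
          _ = u ^ ka * (u ^ kb * (a2 * b2 * a2⁻¹)) * (u ^ ka)⁻¹ * b2⁻¹ * (u ^ kb)⁻¹ := by rw [c1.eq]; group
          _ = u ^ kb * (a2 * b2 * a2⁻¹) * b2⁻¹ * (u ^ kb)⁻¹ := by
            rw [c4 _ (c3.symm.mul_left (((huQ2 a2 ha2).zpow_right ka |>.mul_left c2).mul_left
              ((huQ2 a2 ha2).zpow_right ka).inv_left))]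
          _ = u ^ kb * ⁅a2, b2⁆ * (u ^ kb)⁻¹ := by rw [commutatorElement_def]; group
          _ = ⁅a2, b2⁆ := h.conj_Z (zpow_mem huC kb) (h.comm_mem (F.pair.le2 ha2) (F.pair.le2 hb2))
      have hcw : Commute w ⁅a2, b2⁆ := by
        rw [← e, commutatorElement_def]
        exact ((hka.mul_right hkb).mul_right hka.inv_right).mul_right hkb.inv_right
      refine mem_centralizer_iff.2 fun x hx => ?_
      obtain ⟨i, rfl⟩ := mem_zpowers_iff.1 ((zpowers_eq_of_prime h.Z_card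
        (h.comm_mem (F.pair.le2 ha2) (F.pair.le2 hb2))
        fun e' => hab2 (commutatorElement_eq_one_iff_mul_comm.1 e')).ge hx)
      exact (hcw.zpow_right i).eq.symm
    have hw1 : w ≠ 1 := hwpt.ne_one
    by_cases hwZ : w ∈ Z
    · refine Subgroup.mem_normalizer_fintype fun x hx => ?_
      obtain ⟨i, rfl⟩ := mem_zpowers_iff.1 ((zpowers_eq_of_prime h.Z_card hz hz1).ge hx)
      rw [← conj_zpow]
      exact zpow_mem hwZ i
    · exfalso
      obtain ⟨-, -, -, -, hw3, -, -, -⟩ := F.pt_side hwpt hwC hwZ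
      refine (F.nontriv hwpt hwC hwZ).2 fun x hx => ?_
      obtain ⟨k, hk⟩ := hk x hx
      have hwN := (F.normal_of_three (k := 1) hwC (by rw [pow_one]; exact hw3)).2
      have hvC : (w * u ^ k * w⁻¹)⁻¹ * u ^ k ∈ centralizer (Q2 : Set G) := by
        refine mul_mem (inv_mem (mem_centralizer_iff.2 fun y hy => ?_))
          (mem_centralizer_iff.2 fun y hy => ((huQ2 y hy).zpow_right k).eq)
        have hy' : w⁻¹ * y * w ∈ Q2 := (hwN _).2 (by rwa [show w * (w⁻¹ * y * w) * w⁻¹ = y by group])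
        have e1 := ((huQ2 _ hy').zpow_right k).eq
        calc y * (w * u ^ k * w⁻¹) = w * ((w⁻¹ * y * w) * u ^ k) * w⁻¹ := by group
          _ = w * (u ^ k * (w⁻¹ * y * w)) * w⁻¹ := by rw [e1]
          _ = w * u ^ k * w⁻¹ * y := by group
      set v := (w * u ^ k * w⁻¹)⁻¹ * u ^ k with hv
      have hwx : w * x * w⁻¹ = v * x := by
        have e2 := hk.eq
        calc w * x * w⁻¹ = (w * u ^ k * w⁻¹)⁻¹ * (w * (u ^ k * x) * w⁻¹) := by group
          _ = (w * u ^ k * w⁻¹)⁻¹ * (u ^ k * x) := by rw [e2, mul_inv_cancel_right]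
          _ = v * x := by rw [hv]; group
      rw [hwx, ← mem_centralizer_iff.1 hvC x hx, inv_mul_cancel_left]
      have hv2 : v ∈ Q2 := by
        rw [show v = (w * x * w⁻¹) * x⁻¹ by rw [hwx, mul_inv_cancel_right]]
        exact mul_mem ((hwN x).1 hx) (inv_mem hx)
      refine h.mem_Z_of_comm (F.pair.le2 hv2) fun y hy => ?_
      obtain ⟨u1, hu1, v1, hv1, rfl⟩ := F.pair.dec y hy
      rw [mul_assoc, mem_centralizer_iff.1 hvC v1 hv1, ← mul_assoc, F.pair.comm u1 hu1 v hv2, mul_assoc]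
  obtain ⟨u, huN, hVu⟩ : ∃ u ∈ N, φ.transfer u ≠ 1 := by
    rcases hside with hs | hs
    · exact main F.symm hdN hdφ hs
    · exact main F hdN hdφ hs
  set V := φ.transfer with hV
  refine ⟨V.ker, inferInstance, ?_, ?_, fun hle => hVu (hle huN)⟩
  · rw [index_ker]
    have hne : V.range ≠ ⊥ := fun e => hVu (by
      have : V u ∈ V.range := ⟨u, rfl⟩
      rwa [e, mem_bot] at this)
    haveI : Fact (Nat.card (Multiplicative (ZMod 3))).Prime := ⟨by simp [Nat.prime_three]⟩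
    rw [(Subgroup.eq_bot_or_eq_top_of_prime_card V.range).resolve_left hne, card_top]
    simp
  · rw [← hZc, zpowers_le, MonoidHom.mem_ker, map_commutatorElement,
      commutatorElement_eq_one_iff_mul_comm.2 (mul_comm _ _)]

end Cfsg.Agent.UThreeLocal.End
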