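import Cfsg.Agent.Lib.UThreeLocal.End.Ascend
import Cfsg.Agent.Lib.LargeExtra.Centralizer
import Cfsg.Agent.Lib.CpClosure.Targets
import Cfsg.Agent.Lib.AutPSp.Count
import Cfsg.Agent.S0270
import Cfsg.Agent.S3230
import Cfsg.Agent.S3231

/-!
# Recognition of `U₆(2)` from the centralizer of `t₂`

`C(t₂) = N_{C(t₂)}(R)` with `R` extraspecial of order `2⁹` and quotient `PSp₄(3)` or its automorphism group:
`S3230`, `S3231` apply, and `C(t₂) O(G) = G` is impossible.
-/

set_option autoImplicit false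
set_option linter.unusedSectionVars false
set_option linter.style.haveILetI false

namespace Cfsg.Agent.UThreeLocal.End

open Subgroup

universe u v

variable {G : Type u} [Group G] [Finite G]

/-- A simple nonabelian group has no nontrivial normal 2-subgroup. -/
theorem twoCore_simple {S : Type v} [Group S] [Finite S] [IsSimpleGroup S] (hnc : ¬ IsMulCommutative S)
    {N : Subgroup S} [hN : N.Normal] (hp : IsPGroup 2 ↥N) : N = ⊥ := by
  haveI : Fact (Nat.Prime 2) := ⟨Nat.prime_two⟩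
  refine hN.eq_bot_or_eq_top.resolve_right fun e => hnc ⟨⟨?_⟩⟩
  have h2 : IsPGroup 2 S := by
    subst e
    exact hp.of_equiv Subgroup.topEquiv
  haveI := h2.isNilpotent
  exact IsSimpleGroup.comm_iff_isSolvable.2 inferInstance

/-- Nor has its automorphism group. -/
theorem twoCore_aut {S : Type v} [Group S] [Finite S] [IsSimpleGroup S] (hnc : ¬ IsMulCommutative S)
    (hinj : Function.Injective (MulAut.conj : S →* MulAut S))
    {N : Subgroup (MulAut S)} [hN : N.Normal] (hp : IsPGroup 2 ↥N) : N = ⊥ := by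
  haveI : (N.comap (MulAut.conj : S →* MulAut S)).Normal := hN.comap _
  have h1 : N.comap (MulAut.conj : S →* MulAut S) = ⊥ :=
    twoCore_simple hnc (hp.comap_of_injective _ hinj)
  refine (eq_bot_iff_forall _).2 fun f hf => MulEquiv.ext fun s => ?_
  have h2 : s⁻¹ * f s ∈ N.comap (MulAut.conj : S →* MulAut S) := by
    rw [mem_comap, map_mul, map_inv]
    have e : MulAut.conj (f s) = f * MulAut.conj s * f⁻¹ := MulEquiv.ext fun x => by
      simp [MulAut.conj_apply]
    rw [e, ← mul_assoc, ← mul_assoc]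
    exact mul_mem (by simpa using hN.conj_mem f hf (MulAut.conj s)⁻¹) (inv_mem hf)
  rw [h1, mem_bot, inv_mul_eq_one] at h2
  exact h2.symm

variable {Z Q Q1 Q2 L1 L2 E R : Subgroup G} {t1 t2 z y a1 a2 : G}

theorem t2_mem_cent (h : Local Z Q Q1 Q2 L1 L2 E t1 t2 z y a1 a2) : t2 ∈ centralizer (Z : Set G) :=
  h.frame.L2_le h.frame.t2_mem

theorem z_mem_cent (h : Local Z Q Q1 Q2 L1 L2 E t1 t2 z y a1 a2) : z ∈ centralizer ({t2} : Set G) :=
  mem_centralizer_singleton_iff.2 (mem_centralizer_iff.1 (t2_mem_cent h) z h.z_mem)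

theorem R_le_cent (hZR : (center ↥R).map R.subtype = zpowers t2) : R ≤ centralizer ({t2} : Set G) := by
  intro x hx
  have ht : t2 ∈ (center ↥R).map R.subtype := hZR ▸ mem_zpowers t2
  obtain ⟨c, hc, e⟩ := ht
  exact mem_centralizer_singleton_iff.2 (e ▸ congrArg Subtype.val (mem_center_iff.1 hc ⟨x, hx⟩))

/-- `C(t₂) O(G) = G` is impossible. -/
theorem not_oddCore (h : Local Z Q Q1 Q2 L1 L2 E t1 t2 z y a1 a2) (hR : IsPGroup 2 ↥R)
    (hZR : (center ↥R).map R.subtype = zpowers t2) (hCR : centralizer (R : Set G) = zpowers t2)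
    (hMN : centralizer ({t2} : Set G) ≤ normalizer (R : Set G))
    (htop : centralizer ({t2} : Set G) ⊔ Cfsg.oddCore G = ⊤) : False := by
  haveI : Fact (Nat.Prime 3) := ⟨Nat.prime_three⟩
  haveI : Fact (Nat.Prime 2) := ⟨Nat.prime_two⟩
  set O := Cfsg.oddCore G with hO
  have hOodd : Odd (Nat.card ↥O) := Agent.Cores.oddCore_odd
  have hS := h.frame.set
  have hz3 := hS.Z_cube h.z_mem
  have hzo : orderOf z = 3 := orderOf_eq_prime hz3 h.z_ne
  by_cases hzO : z ∈ O
  · -- `z` would centralise `R`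
    have hzR : z ∈ centralizer (R : Set G) := mem_centralizer_iff.2 fun x hx => by
      have h1 : z * x * z⁻¹ * x⁻¹ ∈ R :=
        mul_mem ((mem_normalizer_iff.1 (hMN (z_mem_cent h)) x).1 hx) (inv_mem hx)
      have h2 : z * x * z⁻¹ * x⁻¹ ∈ O := by
        rw [show z * x * z⁻¹ * x⁻¹ = z * (x * z⁻¹ * x⁻¹) by group]
        exact mul_mem hzO ((inferInstance : O.Normal).conj_mem _ (inv_mem hzO) x)
      obtain ⟨k, hk⟩ := hR.exists_card_eq
      have h3 : z * x * z⁻¹ * x⁻¹ = 1 := orderOf_eq_one_iff.1 (Nat.eq_one_of_dvd_coprimes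
        ((Nat.coprime_two_left.2 hOodd).pow_left k)
        (hk ▸ Subgroup.orderOf_dvd_natCard _ h1) (Subgroup.orderOf_dvd_natCard _ h2))
      exact (mul_inv_eq_iff_eq_mul.1 (mul_inv_eq_one.1 h3)).symm
    rw [hCR] at hzR
    have h2 := orderOf_dvd_of_mem_zpowers hzR
    rw [hzo, h.frame.t2_two] at h2
    exact absurd h2 (by norm_num)
  · -- `z` is fixed point free on `O`
    have hZO : ∀ x ∈ Z, x ∈ O → x = 1 := fun x hx hxO => by
      by_contra hx1
      refine hzO ?_
      have hZx := zpowers_eq_of_prime hS.Z_card hx hx1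
      exact (zpowers_le.2 hxO) (hZx.ge h.z_mem)
    have hfix : ∀ o ∈ O, Commute o z → o = 1 := by
      intro o ho hoz
      have hoH : o ∈ centralizer (Z : Set G) := mem_centralizer_iff.2 fun x hx => by
        obtain ⟨m, rfl⟩ := mem_zpowers_iff.1 ((zpowers_eq_of_prime hS.Z_card h.z_mem h.z_ne).ge hx)
        exact (hoz.zpow_right m).eq.symm
      have hOQ : ∀ q ∈ Q, q ∈ O → q = 1 := by
        intro q hq hqO
        by_contra hq1
        have hne : O.subgroupOf Q ≠ ⊥ := fun e => hq1 (by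
          have h1 : (⟨q, hq⟩ : ↥Q) ∈ O.subgroupOf Q := mem_subgroupOf.2 hqO
          rw [e, mem_bot] at h1
          exact congrArg Subtype.val h1)
        haveI hn : (O.subgroupOf Q).Normal := inferInstance
        letI : MulAction ↥Q ↥(O.subgroupOf Q) :=
          { smul := fun g z => ⟨g * z * g⁻¹, hn.conj_mem _ z.2 g⟩
            one_smul := fun z => Subtype.ext (by show (1 : ↥Q) * z * (1 : ↥Q)⁻¹ = z; simp)
            mul_smul := fun g g' z => Subtype.ext (by
              show g * g' * (z : ↥Q) * (g * g')⁻¹ = g * (g' * (z : ↥Q) * g'⁻¹) * g⁻¹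
              group) }
        have hQp := hS.Q_pgroup
        have h3 : 3 ∣ Nat.card ↥(O.subgroupOf Q) := by
          obtain ⟨n, hn'⟩ := (hQp.to_subgroup (O.subgroupOf Q)).exists_card_eq
          rw [hn']
          refine dvd_pow_self 3 fun e0 => hne (Subgroup.eq_bot_of_card_eq _ ?_)
          rw [hn', e0, pow_zero]
        obtain ⟨w, hw, hw1⟩ := hQp.exists_fixed_point_of_prime_dvd_card_of_fixed_point ↥(O.subgroupOf Q) h3
          (a := (1 : ↥(O.subgroupOf Q))) (fun g => Subtype.ext (by show g * 1 * g⁻¹ = 1; simp))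
        have hwZ : ((w : ↥Q) : G) ∈ Z := hS.mem_Z_of_comm (w : ↥Q).2 fun y' hy => congrArg Subtype.val
          (mul_inv_eq_iff_eq_mul.1 (congrArg Subtype.val (hw ⟨y', hy⟩) :
            (⟨y', hy⟩ : ↥Q) * w * (⟨y', hy⟩ : ↥Q)⁻¹ = w))
        exact hw1 (Subtype.ext (Subtype.ext (hZO _ hwZ (mem_subgroupOf.1 w.2)))).symm
      have hoQ : o ∈ centralizer (Q : Set G) := mem_centralizer_iff.2 fun q hq => by
        have h1 : o * q * o⁻¹ * q⁻¹ = 1 := hOQ _ (mul_mem ((mem_normalizer_iff.1 (hS.Q_norm hoH) q).1 hq)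
          (inv_mem hq)) (by
            rw [show o * q * o⁻¹ * q⁻¹ = o * (q * o⁻¹ * q⁻¹) by group]
            exact mul_mem ho ((inferInstance : O.Normal).conj_mem _ (inv_mem ho) q))
        exact (mul_inv_eq_iff_eq_mul.1 (mul_inv_eq_one.1 h1)).symm
      rw [hS.cent] at hoQ
      exact hZO o hoQ ho
    -- hence `O = 1` by the signalizer property
    have hcop : (Nat.card ↥O).Coprime 3 := by
      letI : MulAction ↥(zpowers z) ↥O :=
        { smul := fun g o => ⟨(g : G) * o * (g : G)⁻¹, (inferInstance : O.Normal).conj_mem _ o.2 _⟩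
          one_smul := fun o => Subtype.ext (by show (1 : G) * o * (1 : G)⁻¹ = o; simp)
          mul_smul := fun g g' o => Subtype.ext (by
            show (g : G) * g' * o * ((g : G) * g')⁻¹ = g * (g' * o * (g' : G)⁻¹) * (g : G)⁻¹
            group) }
      have hp : IsPGroup 3 ↥(zpowers z) := IsPGroup.of_card (n := 1) (by rw [Nat.card_zpowers, hzo, pow_one])
      refine ((Nat.prime_three.coprime_iff_not_dvd).2 fun hd => ?_).symm
      obtain ⟨o, ho, ho1⟩ := hp.exists_fixed_point_of_prime_dvd_card_of_fixed_point ↥O hd (a := (1 : ↥O))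
        (fun g => Subtype.ext (by show (g : G) * 1 * (g : G)⁻¹ = 1; simp))
      refine ho1 (Subtype.ext (hfix o o.2 ?_)).symm
      exact (mul_inv_eq_iff_eq_mul.1
        (congrArg Subtype.val (ho ⟨z, mem_zpowers z⟩) : z * (o : G) * z⁻¹ = o)).symm
    have hObot : O = ⊥ := h.sig O hcop fun e _ => by
      rw [Subgroup.normalizer_eq_top]; exact mem_top e
    rw [hObot, sup_bot_eq] at htop
    have hQ2Z : Q2 ≤ Z := fun x hx => by
      have hxt : x ∈ centralizer ({t2} : Set G) := htop ▸ mem_top x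
      have h1 := h.frame.t2_inv x hx
      rw [show t2 * x = x * t2 from (mem_centralizer_singleton_iff.1 hxt).symm, mul_inv_cancel_right] at h1
      have h2 : x * x * (x * x) = x := by
        have h3 := h.frame.cube x (h.frame.pair.le2 hx)
        rw [pow_succ, pow_two] at h3
        rw [← mul_assoc, h3, one_mul]
      exact h2 ▸ mul_mem h1 h1
    have h27 := Subgroup.card_le_of_le hQ2Z
    rw [h.frame.pair.card2, hS.Z_card] at h27
    omega

/-- Recognition. -/
theorem recognise (h : Local Z Q Q1 Q2 L1 L2 E t1 t2 z y a1 a2) (hR : Cfsg.IsExtraspecial 2 ↥R)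
    (hRc : Nat.card ↥R = 512) (hZR : (center ↥R).map R.subtype = zpowers t2)
    (hCR : centralizer (R : Set G) = zpowers t2)
    (hMN : centralizer ({t2} : Set G) ≤ normalizer (R : Set G)) {F : Type} [iF : Field F] [iFF : Fintype F]
    (hF : Fintype.card F = 3)
    (hφ : (∃ φ : ↥(centralizer ({t2} : Set G) ⊓ normalizer (R : Set G)) →* Cfsg.PSp 2 F,
        Function.Surjective φ ∧ ∀ c, φ c = 1 ↔ (c : G) ∈ R) ∨
      (∃ φ : ↥(centralizer ({t2} : Set G) ⊓ normalizer (R : Set G)) →* MulAut (Cfsg.PSp 2 F),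
        Function.Surjective φ ∧ ∀ c, φ c = 1 ↔ (c : G) ∈ R)) : IsU6Type G := by
  haveI : Fact (Nat.Prime 2) := ⟨Nat.prime_two⟩
  set C := centralizer ({t2} : Set G) with hC
  have hRC : R ≤ C := R_le_cent hZR
  set J := Cfsg.pCore 2 ↥C with hJ
  have hRp : IsPGroup 2 ↥R := IsPGroup.of_card (n := 9) (by rw [hRc]; norm_num)
  haveI : (R.subgroupOf C).Normal := normal_subgroupOf_of_le_normalizer hMN
  haveI hS : IsSimpleGroup (Cfsg.PSp 2 F) := S0270.result 2 le_rfl fun _ => hF.ge
  have hnc : ¬ IsMulCommutative (Cfsg.PSp 2 F) := fun hc => by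
    have hcard := Cfsg.Agent.Lib.CpClosure.natCard_PSp_four_three F hF
    letI : CommGroup (Cfsg.PSp 2 F) :=
      { (inferInstance : Group (Cfsg.PSp 2 F)) with mul_comm := hc.is_comm.comm }
    haveI := hS
    have h1 := IsSimpleGroup.prime_card (α := Cfsg.PSp 2 F)
    rw [hcard] at h1
    exact absurd h1 (by norm_num)
  let ι : ↥C →* ↥(C ⊓ normalizer (R : Set G)) := Subgroup.inclusion (le_inf le_rfl hMN)
  have hιs : Function.Surjective ι := fun c => ⟨⟨c, c.2.1⟩, rfl⟩
  -- the 2-core is `R`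
  have key : ∀ {S : Type} [Group S] [Finite S] (φ : ↥(C ⊓ normalizer (R : Set G)) →* S),
      Function.Surjective φ → (∀ c, φ c = 1 ↔ (c : G) ∈ R) →
      (∀ N : Subgroup S, N.Normal → IsPGroup 2 ↥N → N = ⊥) →
      J = R.subgroupOf C ∧ Nonempty (↥C ⧸ J ≃* S) := by
    intro S _ _ φ hφs hk hcore
    set ψ := φ.comp ι with hψ
    have hψs : Function.Surjective ψ := hφs.comp hιs
    have hker : ψ.ker = R.subgroupOf C := by
      ext c
      rw [MonoidHom.mem_ker, mem_subgroupOf]
      exact hk (ι c)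
    have hJle : J ≤ ψ.ker := by
      have h1 := hcore (J.map ψ) (Subgroup.Normal.map inferInstance ψ hψs)
        ((Agent.Cores.pCore_isPGroup (G := ↥C) 2).map ψ)
      exact (Subgroup.map_eq_bot_iff _).1 h1
    have hJeq : J = R.subgroupOf C := le_antisymm (hker ▸ hJle)
      (Agent.Cores.le_pCore (hRp.of_equiv (subgroupOfEquivOfLe hRC).symm))
    exact ⟨hJeq, ⟨(QuotientGroup.quotientMulEquivOfEq (hJeq.trans hker.symm)).trans
      (QuotientGroup.quotientKerEquivOfSurjective ψ hψs)⟩⟩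
  have hfacts : J = R.subgroupOf C → Cfsg.IsExtraspecial 2 ↥J ∧ Nat.card ↥J = 2 ^ 9 ∧
      centralizer (J : Set ↥C) ≤ J := by
    intro hJeq
    refine ⟨LargeExtra.isExtraspecial_of_equiv hR
      ((subgroupOfEquivOfLe hRC).symm.trans (MulEquiv.subgroupCongr hJeq.symm)), ?_, fun c hc => ?_⟩
    · rw [hJeq, Nat.card_congr (subgroupOfEquivOfLe hRC).toEquiv, hRc]; norm_num
    · rw [hJeq]
      refine mem_subgroupOf.2 ?_
      have h1 : (c : G) ∈ centralizer (R : Set G) := mem_centralizer_iff.2 fun x hx =>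
        congrArg Subtype.val (mem_centralizer_iff.1 hc ⟨x, hRC hx⟩ (hJeq.ge (mem_subgroupOf.2 hx)))
      rw [hCR] at h1
      refine (zpowers_le.2 ?_) h1
      have h2 : t2 ∈ (center ↥R).map R.subtype := hZR ▸ mem_zpowers t2
      exact map_subtype_le _ h2
  haveI hfin4 : Fact (Nat.Prime 2) := ⟨Nat.prime_two⟩
  let K := GaloisField 2 2
  letI : Fintype K := Fintype.ofFinite K
  have hK : Fintype.card K = 4 := by
    rw [← Nat.card_eq_fintype_card, GaloisField.card 2 2 (by norm_num)]; norm_num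
  have hno : ¬ C ⊔ Cfsg.oddCore G = ⊤ := not_oddCore h hRp hZR hCR hMN
  rcases hφ with ⟨φ, hφs, hk⟩ | ⟨φ, hφs, hk⟩
  · obtain ⟨hJeq, ⟨e⟩⟩ := key φ hφs hk fun N hN hp => by
      haveI := hN
      exact twoCore_simple hnc hp
    obtain ⟨h1, h2, h3⟩ := hfacts hJeq
    obtain ⟨eG⟩ := (S3230.result t2 h.frame.t2_two hF hK h1 h2 h3 e).resolve_right hno
    haveI : (⊤ : Subgroup G).Normal := inferInstance
    refine isU6Type_of hK (Subgroup.topEquiv.trans eG) ?_
    haveI : IsSimpleGroup (Cfsg.PSU 6 K 2) :=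
      Agent.Classical.Unitary.isSimpleGroup_PSU (q := 2) (show Fintype.card K = 2 ^ 2 by rw [hK]; rfl)
        (show 3 ≤ 6 by decide) (show ¬ (6 = 3 ∧ 2 = 2) by decide)
    haveI : IsSimpleGroup G := eG.isSimpleGroup_congr.2 inferInstance
    rw [Subgroup.coe_top, centralizer_univ]
    refine (inferInstance : (center G).Normal).eq_bot_or_eq_top.resolve_right fun e0 => ?_
    have hz : t2 ∈ center G := e0 ▸ mem_top t2
    refine hno ?_
    rw [hC, show centralizer ({t2} : Set G) = ⊤ from eq_top_iff.2 fun g _ =>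
      mem_centralizer_singleton_iff.2 (mem_center_iff.1 hz g), top_sup_eq]
  · obtain ⟨hJeq, ⟨e⟩⟩ := key φ hφs hk fun N hN hp => by
      haveI := hN
      exact twoCore_aut hnc (Agent.AutPSp.Count.conj_injective (by norm_num)) hp
    obtain ⟨h1, h2, h3⟩ := hfacts hJeq
    obtain ⟨G₀, hidx, ⟨e₀⟩, hcent⟩ := (S3231.result t2 h.frame.t2_two hF hK h1 h2 h3 e).resolve_right hno
    haveI := Subgroup.normal_of_index_eq_two hidx
    exact isU6Type_of hK e₀ hcent

end Cfsg.Agent.UThreeLocal.End
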