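import Cfsg.Agent.Lib.UThreeLocal.End.Small
import Cfsg.Agent.Lib.UThreeLocal.End.Char
import Cfsg.Agent.Lib.UThreeLocal.End.Ascend
import Cfsg.Agent.Lib.UThreeLocal.Cand.Main
import Cfsg.Agent.Lib.UThreeLocal.Two.Big.Reduce
import Cfsg.Agent.Lib.UThreeLocal.Big.Transfer.Main

/-!
# The steps of the induction, given the data at the involution in the big case
-/

set_option autoImplicit false

namespace Cfsg.Agent.UThreeLocal.End

open Subgroup
open scoped commutatorElement

universe u

/-- What the big case has to supply at the involution. -/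
def ExistsBig : Prop :=
  ∀ {G : Type u} [Group G] [Finite G] {Z Q Q1 Q2 L1 L2 E : Subgroup G} {t1 t2 z y a1 a2 : G},
    Core Z Q Q1 Q2 L1 L2 E t1 t2 z y a1 a2 →
    ∀ P : Subgroup G, IsPGroup 3 ↥P → P ≤ centralizer (Z : Set G) → Nat.card ↥P = 2187 →
    (∀ c ∈ P, (∀ n ∈ normalizer (Z : Set G), ⁅n, c⁆ ∈ Q ⊔ (L1 ⊔ L2)) → c ∈ Q) →
      ∃ (R A N0 : Subgroup G) (z' : G), Big.BigLink Z L1 L2 t2 R A N0 z'

/-- The steps of the induction. -/
theorem steps (hbig : ExistsBig.{u}) : Steps.{u} where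
  small h := small_of_cand h (Cand.exists_candidate h)
  char F _ _ _ P hP hPC hPc φ c hc hφ := exists_index_three F P hP hPC hPc φ c hc hφ
  outer F hy hyC hyZ P hP hPC hPc hout := by
    obtain ⟨E, z, x, a1, a2, hcore⟩ := F.exists_core hy hyC hyZ
    obtain ⟨R, A, N0, z', hlink⟩ := hbig hcore P hP hPC hPc hout
    exact Big.Transfer.exists_big_index_two F P hP hPC hPc hlink
      (Two.Big.centralizer_le_normalizer hlink.toBigOut)
  ascend h K hK hZK hu := @ascend _ _ _ _ _ h K hK hZK hu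

end Cfsg.Agent.UThreeLocal.End
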